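import Mathlib
import Cfsg.Agent.H596.FldFacts
import Cfsg.Agent.H277.ClsPsp

/-!
# S4761: coprime automorphisms of `PSp_{2m}(q)` move classes of elements of two different orders
(helper486; task 3010 of helper596)
-/

set_option autoImplicit false

open scoped Matrix

namespace Cfsg.Agent.H486.Mv

open Cfsg Cfsg.Agent.H277.Cls Matrix
open Cfsg.Agent.ClassicalGeometry.SympAutSemi Cfsg.Agent.ClassicalGeometry.SympGamma Cfsg.Agent.H966.PSpAut
  Cfsg.Agent.H206.PspFix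
open Cfsg.Agent.H596.Fld

/-- the centre of an isomorphic copy of a nonabelian simple group -/
theorem center_bot {G : Type*} [Group G] [IsSimpleGroup G] (hc : ∃ a b : G, a * b ≠ b * a) {K : Type*} [Group K]
    (e : G ≃* K) : Subgroup.center K = ⊥ := by
  have h1 : Subgroup.center G = ⊥ := by
    rcases (inferInstance : (Subgroup.center G).Normal).eq_bot_or_eq_top with h | h
    · exact h
    · obtain ⟨a, b, hab⟩ := hc
      have h2 : b ∈ Subgroup.center G := h ▸ Subgroup.mem_top b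
      exact absurd (Subgroup.mem_center_iff.1 h2 a) hab
  rw [Subgroup.eq_bot_iff_forall]
  intro z hz
  have h2 : e.symm z ∈ Subgroup.center G := by
    rw [Subgroup.mem_center_iff] at hz ⊢
    intro g
    apply e.injective
    rw [map_mul, map_mul, e.apply_symm_apply]
    exact hz (e g)
  rw [h1, Subgroup.mem_bot] at h2
  rw [← e.apply_symm_apply z, h2, map_one]

namespace Psp

/-- the order formula: divisors -/
theorem dvd_card {F : Type*} [Field F] [Fintype F] {q : ℕ} (hF : Fintype.card F = q) {m : ℕ} (hm : 1 ≤ m) {j : ℕ}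
    (hj : 1 ≤ j) (hjm : j ≤ m) : q ^ (2 * j) - 1 ∣ Nat.gcd 2 (q - 1) * Nat.card (PSp m F) := by
  rw [H277.ClsPsp.card_psp hF hm]
  have h1 : q ^ (2 * ((j - 1) + 1)) - 1 ∣ ∏ i ∈ Finset.range m, (q ^ (2 * (i + 1)) - 1) :=
    Finset.dvd_prod_of_mem (fun i => q ^ (2 * (i + 1)) - 1) (Finset.mem_range.2 (by omega))
  rw [Nat.sub_add_cancel hj] at h1
  exact h1.mul_left _

theorem two_dvd {F : Type*} [Field F] [Fintype F] {q : ℕ} (hF : Fintype.card F = q) {m : ℕ} (hm : 2 ≤ m) :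
    2 ∣ Nat.card (PSp m F) := by
  have hq : 2 ≤ q := hF ▸ Fintype.one_lt_card
  rcases Nat.even_or_odd q with hq2 | hq2
  · have h1 : Nat.gcd 2 (q - 1) = 1 := by
      have h2 : Nat.Coprime 2 (q - 1) := by
        rw [Nat.coprime_two_left]
        exact Nat.Even.sub_odd (by omega) hq2 odd_one
      exact h2
    have h2 := H277.ClsPsp.card_psp hF (by omega : 1 ≤ m)
    rw [h1, one_mul] at h2
    rw [h2]
    exact (dvd_pow hq2.two_dvd (by positivity)).mul_right _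
  · have h2 := H277.ClsPsp.card_psp hF (by omega : 1 ≤ m)
    have h3 : (q ^ (2 * (0 + 1)) - 1) * (q ^ (2 * (1 + 1)) - 1) ∣
        ∏ i ∈ Finset.range m, (q ^ (2 * (i + 1)) - 1) := by
      have h4 : ∏ i ∈ Finset.range 2, (q ^ (2 * (i + 1)) - 1) ∣ ∏ i ∈ Finset.range m, (q ^ (2 * (i + 1)) - 1) :=
        Finset.prod_dvd_prod_of_subset _ _ _ (Finset.range_mono hm)
      rwa [Finset.prod_range_succ, Finset.prod_range_one] at h4
    have h4 : 2 * 2 ∣ Nat.gcd 2 (q - 1) * Nat.card (PSp m F) := by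
      rw [h2]
      refine Dvd.dvd.mul_left (dvd_trans (mul_dvd_mul ?_ ?_) h3) _
      · exact (Nat.Odd.sub_odd hq2.pow odd_one).two_dvd
      · exact (Nat.Odd.sub_odd hq2.pow odd_one).two_dvd
    have h5 : 2 * 2 ∣ 2 * Nat.card (PSp m F) := h4.trans (mul_dvd_mul_right (Nat.gcd_dvd_left _ _) _)
    exact Nat.dvd_of_mul_dvd_mul_left (by norm_num) h5

theorem dvd_of_dvd_gcd {F : Type*} [Field F] [Fintype F] {q : ℕ} (hF : Fintype.card F = q) {m : ℕ} (hm : 2 ≤ m)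
    {s a : ℕ} (hs : s.Prime) (h : s ∣ a) (ha : a ∣ Nat.gcd 2 (q - 1) * Nat.card (PSp m F)) :
    s ∣ Nat.card (PSp m F) := by
  rcases hs.dvd_mul.1 (h.trans ha) with h1 | h1
  · have h2 := h1.trans (Nat.gcd_dvd_left _ _)
    rw [(Nat.prime_dvd_prime_iff_eq hs Nat.prime_two).1 h2]
    exact two_dvd hF hm
  · exact h1

/-- prime divisors of `|PGSp_{2m}(q₀)|` -/
theorem dvd_pgsp {F : Type*} [Field F] [Fintype F] {m : ℕ} (hm : 1 ≤ m) {s : ℕ} (hs : s.Prime)
    (h : s ∣ Nat.card (PGSp m F)) : s ∣ Fintype.card F ∨ s ∣ Fintype.card F ^ 1 - 1 ∨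
      ∃ i, 1 ≤ i ∧ i ≤ m ∧ s ∣ Fintype.card F ^ (2 * i) - 1 := by
  have hne : Nonempty (Fin m ⊕ Fin m) := ⟨Sum.inl ⟨0, by omega⟩⟩
  have hJ : (J (Fin m) F) ≠ 0 := by
    intro h
    have := (isUnit_det_J (Fin m) F).ne_zero
    rw [h, det_zero] at this
    exact this rfl
  obtain ⟨d, hd, h3⟩ := Cfsg.Agent.H999.PslGraphSplit.card_proj hJ
  have h4 : Nat.card (PGSp m F) * Nat.card Fˣ = Nat.card ↥(Matrix.symplecticGroup (Fin m) F) * d := by
    rw [← Nat.card_congr (Cfsg.Agent.H999.PslGraphTwo.isoJ (m := m) (F := F)).toEquiv]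
    exact h3
  have h5 : s ∣ Nat.card ↥(Matrix.symplecticGroup (Fin m) F) * d := h4 ▸ h.mul_right _
  rcases hs.dvd_mul.1 h5 with h6 | h6
  · rw [S0245.result rfl m] at h6
    rcases hs.dvd_mul.1 h6 with h7 | h7
    · exact Or.inl (hs.dvd_of_dvd_pow h7)
    · obtain ⟨i, hi, h8⟩ := (Prime.dvd_finsetProd_iff hs.prime _).1 h7
      rw [Finset.mem_range] at hi
      exact Or.inr (Or.inr ⟨i + 1, by omega, by omega, h8⟩)
  · refine Or.inr (Or.inl ?_)
    rw [pow_one]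
    have h7 := h6.trans hd
    rwa [Nat.card_units, Nat.card_eq_fintype_card] at h7

/-- **`PSp_{2m}(q)`.** -/
theorem twoMoved {F : Type} [Field F] [Fintype F] {p : ℕ} [CharP F p] {m : ℕ} (hm : 2 ≤ m)
    (hs : m = 2 → 3 ≤ Fintype.card F) (hZ : Subgroup.center (PSp m F) = ⊥) : TwoMoved (PSp m F) := by
  intro α hr hα
  have hpp : p.Prime := CharP.char_is_prime F p
  have : Fact p.Prime := ⟨hpp⟩
  have hfin : Finite (PSp m F) := Quotient.finite _
  obtain ⟨f, -, hF⟩ := FiniteField.card F p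
  have h2K : 2 ∣ Nat.card (PSp m F) := two_dvd hF hm
  have hr2 : orderOf α ≠ 2 := fun h => hα (h ▸ h2K)
  have hco : (orderOf α).Coprime (Nat.card (PSp m F)) := (Nat.Prime.coprime_iff_not_dvd hr).2 hα
  have hcard : Nat.card (MulAut (PSp m F)) ∣ 4 * f * Nat.card (PSp m F) := by
    rw [S0814.result p f f.pos hF m hm (fun h => hF ▸ hs h)]
    refine mul_dvd_mul_right (mul_dvd_mul_right ?_ _) _
    rw [show (4 : ℕ) = 2 * 2 by norm_num]
    refine mul_dvd_mul ?_ (Nat.gcd_dvd_left _ _)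
    split_ifs
    · exact dvd_rfl
    · exact one_dvd _
  obtain ⟨g, σ, hg, hσ, -, hrf⟩ := exists_field hZ
    (Schreier.ClassPSp.sch hm (fun h => by rw [Nat.card_eq_fintype_card]; exact hs h)) hF (phi m F)
    (phi_injective (by omega)) hcard
    (fun s hs hsd => by
      have h1 : s ∣ 2 := hs.dvd_of_dvd_pow (show s ∣ 2 ^ 2 by norm_num; exact hsd)
      rwa [(Nat.prime_dvd_prime_iff_eq hs Nat.prime_two).1 h1]) hr hco
  have hcl : IsFieldAutClassPSp α := ⟨g, σ, hσ, eq_Psi_frob.2 (by rw [hg]; rfl)⟩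
  obtain ⟨F₀, _, _, _, hF₀, hj, hq₀, hpow⟩ := exists_subfield (p := p) f.ne_zero hr hrf
  obtain ⟨-, hiso, -⟩ := S2712.result hF f.pos hm hs α hcl hr rfl F₀ hF₀
  set r := orderOf α with hrdef
  set q₀ := p ^ ((f : ℕ) / r) with hq₀def
  have hFq : Fintype.card F = q₀ ^ r := by rw [hF, hpow]
  have hfx := card_fx_dvd hZ (H := inndiagPSp m F) (fun x => Cfsg.Agent.H202.PspSplit.inn_le ⟨x, rfl⟩) hiso
  -- `r` does not divide `q² - 1`
  have hsq : (q₀ ^ r) ^ 2 - 1 = (q₀ ^ r - 1) * (q₀ ^ r + 1) := by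
    have := Nat.sq_sub_sq (q₀ ^ r) 1
    rw [one_pow] at this
    rw [this, mul_comm]
  have hdq : ∀ j, 1 ≤ j → j ≤ m → (q₀ ^ r) ^ (2 * j) - 1 ∣ Nat.gcd 2 (q₀ ^ r - 1) * Nat.card (PSp m F) :=
    fun j h1 h2 => dvd_card hFq (by omega) h1 h2
  have h1 : ¬ r ∣ q₀ ^ r - 1 := fun h => hα (dvd_of_dvd_gcd hFq hm hr (hsq ▸ h.mul_right _)
    (by have := hdq 1 le_rfl (by omega); rwa [mul_one] at this))
  have h2 : ¬ r ∣ q₀ ^ r + 1 := fun h => hα (dvd_of_dvd_gcd hFq hm hr (hsq ▸ h.mul_left _)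
    (by have := hdq 1 le_rfl (by omega); rwa [mul_one] at this))
  obtain ⟨s₁, s₂, hs₁, hs₂, hne, hd₁, hd₂, ho₁, ho₂, hn₁, hn₂⟩ := exists_primes hr hr2 hq₀ h1 h2
  -- `r > m`
  have hrm : m < r := by
    by_contra hcon
    rw [not_lt] at hcon
    have hodd : Odd r := hr.odd_of_ne_two hr2
    obtain ⟨j, hj'⟩ := hodd
    have hj1 : 1 ≤ j := by
      have := hr.two_le
      omega
    apply hα
    by_cases hrq : r ∣ q₀ ^ r
    · have h3 := H277.ClsPsp.card_psp hFq (by omega : 1 ≤ m)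
      have h4 : r ∣ Nat.gcd 2 (q₀ ^ r - 1) * Nat.card (PSp m F) := by
        rw [h3]
        exact (dvd_pow hrq (by positivity)).mul_right _
      exact dvd_of_dvd_gcd hFq hm hr dvd_rfl h4
    · have h3 : r ∣ (q₀ ^ r) ^ (2 * j) - 1 := by
        have h4 : ((q₀ ^ r : ℕ) : ZMod r) ≠ 0 := by
          rw [Ne, ZMod.natCast_eq_zero_iff]
          exact hrq
        have : Fact r.Prime := ⟨hr⟩
        have h5 := ZMod.pow_card_sub_one_eq_one h4
        rw [dvd_pow_sub_one_iff (by positivity)]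
        have h6 : r - 1 = 2 * j := by omega
        rw [← h6]
        exact h5
      exact dvd_of_dvd_gcd hFq hm hr h3 (hdq j hj1 (by omega))
  have key : ∀ s : ℕ, s.Prime → ¬ s ∣ q₀ → (∀ i, s ∣ q₀ ^ i - 1 → r ∣ i) → ¬ s ∣ Nat.card (fx α) := by
    intro s hs hsq hso hcon
    rcases dvd_pgsp (by omega) hs (hcon.trans hfx) with h | h | ⟨i, hi, him, h⟩
    · rw [hF₀] at h
      exact hsq h
    · rw [hF₀] at h
      exact hr.one_lt.ne' (Nat.dvd_one.1 (hso 1 h))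
    · rw [hF₀] at h
      have h3 : r ∣ i := (((Nat.coprime_primes hr Nat.prime_two).2 hr2).dvd_of_dvd_mul_left (hso _ h))
      have := Nat.le_of_dvd (by omega) h3
      omega
  refine moved_of_primes hr hα hs₁ hs₂ hne ?_ ?_ (key s₁ hs₁ hn₁ ho₁) (key s₂ hs₂ hn₂ fun i hi =>
    (dvd_mul_left r 2).trans (ho₂ i hi))
  · exact dvd_of_dvd_gcd hFq hm hs₁ (hsq ▸ hd₁.mul_right _)
      (by have := hdq 1 le_rfl (by omega); rwa [mul_one] at this)
  · exact dvd_of_dvd_gcd hFq hm hs₂ (hsq ▸ hd₂.mul_left _)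
      (by have := hdq 1 le_rfl (by omega); rwa [mul_one] at this)

end Psp

/-- **The row.** -/
theorem row_psp {r : ℕ} {G : Type*} [Group G] [Finite G] [IsSimpleGroup G] (hc : ∃ a b : G, a * b ≠ b * a)
    (hG : IsPSpChar r G) : TwoMoved G := by
  obtain ⟨F, _, _, _, m, hm, hs, ⟨e⟩⟩ := hG
  exact TwoMoved.congr e (Psp.twoMoved hm hs (center_bot hc e))

end Cfsg.Agent.H486.Mv
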